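import Groth.Agent.Sga3.H807.ValCore
import Groth.Agent.S2958

/-!
# Monomorphisms out of reductive groups are immersions (assembly of S4127)
-/

set_option autoImplicit false
universe u
open CategoryTheory MonoidalCategory CartesianMonoidalCategory MonObj GrpObj AlgebraicGeometry Limits

namespace Groth.Agent.Sga3.H807.Asm4127

open Groth.Agent.Sga3.H832 Groth.Agent.Sga3.H832.TorExt Groth.Agent.Sga3.H832.ClosedCore
  Groth.Agent.Sga3.H832.HensPt Groth.Agent.Sga3.H832.Asm4144 Groth.Agent.Sga3.H832.BcPt ValCore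
open Groth.Agent.Sga3B

/-- The reduction to a valuation ring with algebraically closed fraction field over which the group is split. -/
theorem exists_data {S : Scheme.{u}} (G H : Over S) [GrpObj G] [GrpObj H] (hG : Red.IsReductive G)
    (u : G ⟶ H) [IsMonHom u] [Mono u]
    (R : Type u) [CommRing R] [IsDomain R] [ValuationRing R] (K : Type u) [Field K] [Algebra R K]
    [IsFractionRing R K] (y : Spec (CommRingCat.of R) ⟶ H.left) (a : Spec (CommRingCat.of K) ⟶ G.left)
    (ha : a ≫ u.left = Spec.map (CommRingCat.ofHom (algebraMap R K)) ≫ y)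
    (core : ∀ (U : Scheme.{u}) (f : U ⟶ S) (_ : Red.SplitRed (Red.bc f G)) (R₁ K₁ : Type u) (_ : CommRing R₁)
      (_ : IsDomain R₁) (_ : ValuationRing R₁) (_ : Field K₁) (_ : IsAlgClosed K₁) (_ : Algebra R₁ K₁)
      (_ : IsFractionRing R₁ K₁) (y₁ : Spec (CommRingCat.of R₁) ⟶ U) (φ : R →+* R₁) (_ : IsLocalHom φ)
      (h : 𝟙_ (Over (Spec (CommRingCat.of R₁))) ⟶ bc2 y₁ f H)
      (_ : h.left ≫ pr y₁ f H = Spec.map (CommRingCat.ofHom φ) ≫ y)
      (gK : gen R₁ K₁ ⟶ bc2 y₁ f G), gK ≫ bc2Map y₁ f u = toUnit _ ≫ h →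
      ∃ g : 𝟙_ (Over (Spec (CommRingCat.of R₁))) ⟶ bc2 y₁ f G, g ≫ bc2Map y₁ f u = h) :
    ∃ l : Spec (CommRingCat.of R) ⟶ G.left, l ≫ u.left = y := by
  let s : Spec (CommRingCat.of R) ⟶ S := y ≫ H.hom
  obtain ⟨U, q, hq1, hq2, ⟨D⟩⟩ := Groth.Agent.S2958.result G hG (s (IsLocalRing.closedPoint R))
  obtain ⟨R₁, K₁, _, _, _, _, _, _, _, φ, y₁, hφ, hφl, hy₁⟩ := ValExt.exists_valuationRing q s hq2
  -- the point `h` over `R₁`
  let h₀ : Spec (CommRingCat.of R₁) ⟶ H.left := Spec.map (CommRingCat.ofHom φ) ≫ y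
  have hh₀ : h₀ ≫ H.hom = (𝟙_ (Over (Spec (CommRingCat.of R₁)))).hom ≫ y₁ ≫ q := by
    change (Spec.map (CommRingCat.ofHom φ) ≫ y) ≫ H.hom = 𝟙 _ ≫ y₁ ≫ q
    rw [Category.id_comp, hy₁, Category.assoc]
  let h : 𝟙_ (Over (Spec (CommRingCat.of R₁))) ⟶ bc2 y₁ q H := pt2 y₁ q H h₀ hh₀
  have hh : h.left ≫ pr y₁ q H = h₀ := pt2_pr y₁ q H _ _
  -- the generic point
  let φK : K →+* K₁ := IsFractionRing.map (A := R) (B := R₁) (K := K) (L := K₁) (j := φ) hφ
  have hφK : φK.comp (algebraMap R K) = (algebraMap R₁ K₁).comp φ := by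
    ext x
    exact IsLocalization.map_eq (nonZeroDivisors_le_comap_nonZeroDivisors_of_injective φ hφ) x
  have eK : Spec.map (CommRingCat.ofHom (algebraMap R₁ K₁)) ≫ Spec.map (CommRingCat.ofHom φ) =
      Spec.map (CommRingCat.ofHom φK) ≫ Spec.map (CommRingCat.ofHom (algebraMap R K)) := by
    rw [← Spec.map_comp, ← Spec.map_comp, ← CommRingCat.ofHom_comp, ← CommRingCat.ofHom_comp, hφK]
  let aK : (gen R₁ K₁).left ⟶ G.left := Spec.map (CommRingCat.ofHom φK) ≫ a
  have haK : aK ≫ u.left = (toUnit (gen R₁ K₁)).left ≫ h₀ := by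
    rw [Over.toUnit_left]
    change (Spec.map (CommRingCat.ofHom φK) ≫ a) ≫ u.left =
      Spec.map (CommRingCat.ofHom (algebraMap R₁ K₁)) ≫ Spec.map (CommRingCat.ofHom φ) ≫ y
    rw [Category.assoc, ha, ← Category.assoc, ← eK, Category.assoc]
  have haK' : aK ≫ G.hom = (gen R₁ K₁).hom ≫ y₁ ≫ q := by
    rw [← Over.w u, ← Category.assoc, haK, Category.assoc, hh₀, ← Category.assoc, Over.w]
  obtain ⟨g, hg⟩ := core U q D R₁ K₁ inferInstance inferInstance inferInstance inferInstance inferInstance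
    inferInstance inferInstance y₁ φ hφl h hh (pt2 y₁ q G aK haK') (hom_ext2 y₁ q (by
      rw [Over.comp_left, Category.assoc, map_pr, ← Category.assoc, pt2_pr, haK, Over.comp_left, Category.assoc,
        hh]))
  refine H824.ImmVal.exists_lift_of_extension u.left φ hφ y (g.left ≫ pr y₁ q G) ?_
  rw [Category.assoc, ← map_pr, ← Category.assoc, ← Over.comp_left, hg, hh]

theorem isImmersion_of (hA : AProp.{u}) (S : Scheme.{u}) (G H : Over S) [GrpObj G] [GrpObj H]
    (hG : Red.IsReductive G) (u : G ⟶ H) [IsMonHom u] [Mono u] [QuasiCompact u.left]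
    [LocallyOfFiniteType u.left] : IsImmersion u.left := by
  refine H824.ImmVal.isImmersion_of_valuative u.left ?_
  intro R _ _ _ K _ _ _ y a b ha hb
  refine exists_data G H hG u R K y a ha ?_
  intro U q D R₁ K₁ _ _ _ _ _ _ _ y₁ φ hφl h hh gK hgK
  have i3 : QuasiCompact (bc2Map y₁ q u).left := prop_bc2Map y₁ q u ‹QuasiCompact u.left›
  have i4 : LocallyOfFiniteType (bc2Map y₁ q u).left := prop_bc2Map y₁ q u ‹LocallyOfFiniteType u.left›
  -- the closed point
  let φk : IsLocalRing.ResidueField R →+* IsLocalRing.ResidueField R₁ := IsLocalRing.ResidueField.map φ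
  have ek : Spec.map (CommRingCat.ofHom (IsLocalRing.residue R₁)) ≫ Spec.map (CommRingCat.ofHom φ) =
      Spec.map (CommRingCat.ofHom φk) ≫ Spec.map (CommRingCat.ofHom (IsLocalRing.residue R)) := by
    rw [← Spec.map_comp, ← Spec.map_comp, ← CommRingCat.ofHom_comp, ← CommRingCat.ofHom_comp]
    congr 2
  let bk : (clo R₁).left ⟶ G.left := Spec.map (CommRingCat.ofHom φk) ≫ b
  have hbk : bk ≫ u.left = (toUnit (clo R₁)).left ≫ h.left ≫ pr y₁ q H := by
    rw [Over.toUnit_left, hh]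
    change (Spec.map (CommRingCat.ofHom φk) ≫ b) ≫ u.left =
      Spec.map (CommRingCat.ofHom (IsLocalRing.residue R₁)) ≫ Spec.map (CommRingCat.ofHom φ) ≫ y
    rw [Category.assoc, hb, ← Category.assoc, ← ek, Category.assoc]
  have hbk' : bk ≫ G.hom = (clo R₁).hom ≫ y₁ ≫ q := by
    rw [← Over.w u, ← Category.assoc, hbk, Category.assoc, Category.assoc, pr_hom, Over.w_assoc, Over.w_assoc]
  exact lift_imm y₁ hA D (bc2Map y₁ q u) h gK hgK (pt2 y₁ q G bk hbk') (hom_ext2 y₁ q (by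
      rw [Over.comp_left, Category.assoc, map_pr, ← Category.assoc, pt2_pr, hbk, Over.comp_left, Category.assoc]))

theorem isClosedImmersion_of (hA : AProp.{u}) (S : Scheme.{u}) (G H : Over S) [GrpObj G] [GrpObj H]
    (hG : Red.IsReductive G) [IsSeparated H.hom] [LocallyOfFiniteType H.hom] [QuasiCompact H.hom]
    (u : G ⟶ H) [IsMonHom u] [Mono u] [QuasiCompact u.left]
    [LocallyOfFiniteType u.left] : IsClosedImmersion u.left := by
  refine H824.ImmVal.isClosedImmersion_of_valuative u.left ?_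
  intro R _ _ _ K _ _ _ y a ha
  refine exists_data G H hG u R K y a ha ?_
  intro U q D R₁ K₁ _ _ _ _ _ _ _ y₁ φ hφl h hh gK hgK
  have i1 : IsSeparated (bc2 y₁ q H).hom := prop_bc2 y₁ q ‹IsSeparated H.hom›
  have i2 : LocallyOfFiniteType (bc2 y₁ q H).hom := prop_bc2 y₁ q ‹LocallyOfFiniteType H.hom›
  have i3 : QuasiCompact (bc2 y₁ q H).hom := prop_bc2 y₁ q ‹QuasiCompact H.hom›
  exact lift_closed y₁ hA D (bc2Map y₁ q u) h gK hgK

theorem s4127 (hA : AProp.{u}) (S : Scheme.{u}) (G H : Over S) [GrpObj G] [GrpObj H]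
    (hG : Red.IsReductive G) [LocallyOfFinitePresentation H.hom] [QuasiCompact H.hom] [QuasiSeparated H.hom]
    (u : G ⟶ H) [IsMonHom u] [Mono u] :
    IsImmersion u.left ∧ (IsSeparated H.hom → IsClosedImmersion u.left) := by
  have h1 : IsAffineHom G.hom := hG.1
  have h2 : Smooth G.hom := hG.2.1
  have q1 : QuasiCompact u.left := quasiCompact_left (Or.inl inferInstance) u
  have q2 : LocallyOfFiniteType (u.left ≫ H.hom) := by rw [Over.w]; infer_instance
  have q3 : LocallyOfFiniteType u.left := locallyOfFiniteType_of_comp u.left H.hom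
  exact ⟨isImmersion_of hA S G H hG u, fun _ => isClosedImmersion_of hA S G H hG u⟩

end Groth.Agent.Sga3.H807.Asm4127
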