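import Groth.Agent.Sga3B.WordField
import Groth.Agent.Sga3B.WordInf

/-!
# The Iwasawa decomposition for split reductive groups over valuation rings

`E : PinCell P b R A` a pinned split reductive group over a ring `R` and `K` an algebraically closed
`R`-field such that every element of `K` or its inverse comes from `R`.  Then
`G(K) = G(R) U⁺(K) T(K)`.
-/

set_option autoImplicit false
set_option linter.unusedSectionVars false
universe u

namespace Groth.Agent.Sga3.H807.Iwasawa

open Groth.Agent.Sga3B.Cell Groth.Agent.Sga3B.Word Groth.Agent.Sga3B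

variable {idx M : Type} [Fintype idx] [AddCommGroup M] [Module.Free ℤ M]
    [Module.Finite ℤ M] {P : RootPairing idx ℤ M (Module.Dual ℤ M)} {b : P.Base}
    {R A : Type u} [CommRing R] [CommRing A] [Algebra R A] [PtGrp R A]

section general

variable (E : PinCell P b R A) {B : Type u} [CommRing B] [Algebra R B]

/-- torus conjugation of products over a list -/
lemma i_conj_list (L : List idx) (t : TPt M B) (x : idx → B) :
    E.i B t * (L.map (fun a => E.uu a B (x a))).prod * (E.i B t)⁻¹ =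
      (L.map (fun a => E.uu a B (TPt.ch (P.root a) t * x a))).prod := by
  induction L with
  | nil => simp
  | cons a L ih =>
    simp only [List.map_cons, List.prod_cons]
    rw [← ih, ← E.rel a t (x a)]
    group

lemma i_conj_posP (t : TPt M B) (x : idx → B) :
    E.i B t * posP E x * (E.i B t)⁻¹ = posP E (fun a => TPt.ch (P.root a) t * x a) :=
  i_conj_list E _ t x

lemma i_mul_posP (t : TPt M B) (x : idx → B) :
    E.i B t * posP E x = posP E (fun a => TPt.ch (P.root a) t * x a) * E.i B t := by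
  rw [← i_conj_posP]; group

lemma i_mul_uu (t : TPt M B) (a : idx) (x : B) :
    E.i B t * E.uu a B x = E.uu a B (TPt.ch (P.root a) t * x) * E.i B t := by
  rw [← E.rel]; group

/-- conjugation of a product over a list -/
lemma conj_list_prod {Γ : Type*} [Group Γ] (g : Γ) (L : List Γ) :
    g * L.prod * g⁻¹ = (L.map (fun y => g * y * g⁻¹)).prod := by
  induction L with
  | nil => simp
  | cons a L ih =>
    simp only [List.map_cons, List.prod_cons]
    rw [← ih]
    group

variable [DecidableEq idx]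

/-- a product of root group elements with positive roots lies in `U⁺`; the simple coordinate at `a`
is zero if `a` does not occur. -/
lemma exists_posP_prod {a : idx} (ha : a ∈ b.support) (L : List idx) (c : idx → idx)
    (x : idx → B) (hc : ∀ l ∈ L, (b.IsPos (c l) ∧ c l ≠ a) ∨ x l = 0) :
    ∃ z : idx → B, (L.map (fun l => E.uu (c l) B (x l))).prod = posP E z ∧ z a = 0 := by
  induction L with
  | nil => exact ⟨0, by simp, rfl⟩
  | cons l L ih =>
    obtain ⟨z, h1, h2⟩ := ih (fun l hl => hc l (List.mem_cons_of_mem _ hl))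
    rcases hc l List.mem_cons_self with ⟨h5, h6⟩ | h5
    · obtain ⟨w, h3, h4⟩ := exists_posP_mul E (Pi.single (c l) (x l)) z
      refine ⟨w, ?_, ?_⟩
      · rw [List.map_cons, List.prod_cons, h1, ← h3, posP_single E h5]
      · rw [h4 a ha, h2, add_zero, Pi.single_eq_of_ne]
        exact h6.symm
    · refine ⟨z, ?_, h2⟩
      rw [List.map_cons, List.prod_cons, h1, h5, E.uu_zero, one_mul]

/-- the elements `g` with `g V_a g⁻¹ ⊆ V_a`, `V_a` the part of `U⁺` with simple coordinate `0` at `a`. -/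
def Pres (a : idx) (g : Pt R A B) : Prop :=
  ∀ x : idx → B, x a = 0 → ∃ y : idx → B, y a = 0 ∧ g * posP E x * g⁻¹ = posP E y

omit [DecidableEq idx] in
variable {E} in
lemma Pres.one {a : idx} : Pres E a (1 : Pt R A B) := fun x hx => ⟨x, hx, by simp⟩

omit [DecidableEq idx] in
variable {E} in
lemma Pres.mul {a : idx} {g h : Pt R A B} (hg : Pres E a g) (hh : Pres E a h) : Pres E a (g * h) := by
  intro x hx
  obtain ⟨y, hy, h1⟩ := hh x hx
  obtain ⟨z, hz, h2⟩ := hg y hy
  refine ⟨z, hz, ?_⟩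
  rw [← h2, ← h1]
  group

lemma pres_uu {a : idx} (ha : a ∈ b.support) (z : B) : Pres E a (E.uu a B z) := by
  intro x hx
  obtain ⟨w, h1, h2⟩ := exists_posP_mul E (Pi.single a z) x
  obtain ⟨v, h3, h4⟩ := exists_posP_mul E w (Pi.single a (-z))
  refine ⟨v, ?_, ?_⟩
  · rw [h4 a ha, h2 a ha, hx]
    simp
  · rw [← h3, ← h1, posP_single E (isPos_simple ha), posP_single E (isPos_simple ha), E.uu_neg]

omit [DecidableEq idx] in
lemma isPos_refl {a c : idx} (ha : a ∈ b.support) (hc : b.IsPos c) (hca : c ≠ a) :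
    b.IsPos (P.reflectionPerm a c) ∧ P.reflectionPerm a c ≠ a := by
  have : P.IsReduced := PinComb.isReduced b
  refine ⟨RootPairing.Base.IsPos.reflectionPerm (i := c) (j := a) hc ha ?_, ?_⟩
  · exact hca
  · intro h
    have h1 : c = P.reflectionPerm a a := by
      rw [← P.reflectionPerm_self a c, h]
    exact not_isPos_neg (isPos_simple ha) (h1 ▸ hc)


omit [DecidableEq idx] in
/-- `n_a` normalises `V_a` -/
lemma pres_conj {a : idx} (ha : a ∈ b.support) (g : Pt R A B) (r : idx → B)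
    (hg : ∀ (c : idx) (x : B), g * E.uu c B x * g⁻¹ = E.uu (P.reflectionPerm a c) B (r c * x)) :
    Pres E a g := by
  classical
  intro x hx
  have h1 : g * posP E x * g⁻¹ =
      ((posList b).map (fun c => E.uu (P.reflectionPerm a c) B (r c * x c))).prod := by
    rw [posP, conj_list_prod, List.map_map]
    congr 1
    refine List.map_congr_left fun c _ => hg c (x c)
  obtain ⟨z, h2, h3⟩ := exists_posP_prod E ha (posList b) (P.reflectionPerm a) (fun c => r c * x c)
    (fun c hc => by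
      by_cases hca : c = a
      · right; rw [hca, hx, mul_zero]
      · left; exact isPos_refl ha ((mem_posList b).mp hc) hca)
  exact ⟨z, h3, h1.trans h2⟩

omit [DecidableEq idx] in
lemma pres_nn {a : idx} (ha : a ∈ b.support) : Pres E a (E.nn a B) := by
  choose r hr using fun c => E.nn_conj ha c
  exact pres_conj E ha _ (fun c => algebraMap R B (r c)) (fun c x => hr c x)

omit [DecidableEq idx] in
lemma pres_nn_inv {a : idx} (ha : a ∈ b.support) : Pres E a (E.nn a B)⁻¹ := by
  choose r hr using fun c => E.nn_conj ha c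
  refine pres_conj E ha _ (fun c => algebraMap R B ((r (P.reflectionPerm a c))⁻¹ : Rˣ))
    (fun c x => ?_)
  have h1 := hr (P.reflectionPerm a c) (algebraMap R B ((r (P.reflectionPerm a c))⁻¹ : Rˣ) * x)
  rw [P.reflectionPerm_self, ← mul_assoc (algebraMap R B _), ← map_mul, Units.mul_inv, map_one, one_mul] at h1
  rw [← h1]
  group

lemma pres_uu_neg {a : idx} (ha : a ∈ b.support) (z : B) :
    Pres E a (E.uu (P.reflectionPerm a a) B z) := by
  obtain ⟨r, hr⟩ := E.nn_conj ha a
  have h1 := hr (algebraMap R B (r⁻¹ : Rˣ) * z)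
  rw [← mul_assoc (algebraMap R B _), ← map_mul, Units.mul_inv, map_one, one_mul] at h1
  rw [← h1]
  exact ((pres_nn E ha).mul (pres_uu E ha _)).mul (pres_nn_inv E ha)

end general

/-! ### rank one over a valuation ring -/

section field

variable (E : PinCell P b R A) {K : Type u} [Field K] [Algebra R K]

/-- points over `R` seen over `K` -/
noncomputable abbrev toK (g : Pt R A R) : Pt R A K := Pt.map (Algebra.ofId R K) g

lemma toK_mul (g h : Pt R A R) : toK (K := K) (g * h) = toK g * toK h := Pt.map_mul _ g h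

lemma toK_uu (c : idx) (r : R) : toK (K := K) (E.uu c R r) = E.uu c K (algebraMap R K r) :=
  E.uu_nat c (Algebra.ofId R K) r

/-- the subgroup `L_a(R)` of `G(R)` generated by `U_a(R)` and `U_{-a}(R)` -/
def La (a : idx) : Subgroup (Pt R A R) :=
  Subgroup.closure ({g | ∃ r, g = E.uu a R r} ∪ {g | ∃ r, g = E.uu (P.reflectionPerm a a) R r})

lemma uu_mem_La (a : idx) (r : R) : E.uu a R r ∈ La E a :=
  Subgroup.subset_closure (Or.inl ⟨r, rfl⟩)

lemma uu_neg_mem_La (a : idx) (r : R) : E.uu (P.reflectionPerm a a) R r ∈ La E a :=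
  Subgroup.subset_closure (Or.inr ⟨r, rfl⟩)

lemma pres_La {a : idx} (ha : a ∈ b.support) {l : Pt R A R} (hl : l ∈ La E a) :
    Pres E a (toK (K := K) l) := by
  classical
  induction hl using Subgroup.closure_induction'' with
  | mem g hg =>
    rcases hg with ⟨r, rfl⟩ | ⟨r, rfl⟩
    · rw [toK_uu]; exact pres_uu E ha _
    · rw [toK_uu]; exact pres_uu_neg E ha _
  | inv_mem g hg =>
    rcases hg with ⟨r, rfl⟩ | ⟨r, rfl⟩
    · rw [← E.uu_neg, toK_uu]; exact pres_uu E ha _
    · rw [← E.uu_neg, toK_uu]; exact pres_uu_neg E ha _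
  | one => rw [toK, Pt.map_one]; exact Pres.one
  | mul g h _ _ hg hh => rw [toK, Pt.map_mul]; exact hg.mul hh

variable (hval : ∀ x : K, (∃ r : R, algebraMap R K r = x) ∨ ∃ r : R, algebraMap R K r = x⁻¹)

include hval in
/-- `U_{-a}(K) ⊆ L_a(R) U_a(K) T(K)` -/
lemma exists_of_uu_neg {a : idx} (ha : a ∈ b.support) (w : K) :
    ∃ l ∈ La E a, ∃ (z : K) (t : TPt M K),
      E.uu (P.reflectionPerm a a) K w = toK l * E.uu a K z * E.i K t := by
  rcases hval w with ⟨r, hr⟩ | ⟨r, hr⟩
  · refine ⟨_, uu_neg_mem_La E a r, 0, 1, ?_⟩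
    rw [toK_uu, hr]; simp
  by_cases hw : w = 0
  · refine ⟨1, one_mem _, 0, 1, ?_⟩
    rw [hw, toK, Pt.map_one]; simp
  -- `v = w⁻¹`, `x = w⁻¹ - 1`, `y = 1`
  have h1 := E.rank1 a ha (w⁻¹ - 1) 1 (Units.mk0 w⁻¹ (inv_ne_zero hw)) (by simp)
  rw [mul_one] at h1
  have h2 : (((Units.mk0 w⁻¹ (inv_ne_zero hw))⁻¹ : Kˣ) : K) = w := by simp
  rw [h2] at h1
  set c := E.i K (TPt.cow (P.coroot a) (Units.mk0 w⁻¹ (inv_ne_zero hw))) with hc
  have h3 : E.uu (P.reflectionPerm a a) K w = E.uu a K (w⁻¹ - 1) * E.uu (P.reflectionPerm a a) K 1 *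
      E.uu a K (-(w * (w⁻¹ - 1))) * c⁻¹ := by
    rw [h1, E.uu_neg]; group
  refine ⟨E.uu a R (r - 1) * E.uu (P.reflectionPerm a a) R 1,
    mul_mem (uu_mem_La E a _) (uu_neg_mem_La E a _), -(w * (w⁻¹ - 1)),
    (TPt.cow (P.coroot a) (Units.mk0 w⁻¹ (inv_ne_zero hw)))⁻¹, ?_⟩
  rw [h3, toK_mul, toK_uu, toK_uu, map_sub, map_one, hr, i_inv, ← hc]


include hval in
/-- `U_a(K) U_{-a}(K) ⊆ L_a(R) U_a(K) T(K)` -/
lemma exists_of_uu_uu_neg {a : idx} (ha : a ∈ b.support) (z y : K) :
    ∃ l ∈ La E a, ∃ (w : K) (t : TPt M K),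
      E.uu a K z * E.uu (P.reflectionPerm a a) K y = toK l * E.uu a K w * E.i K t := by
  by_cases hz : ∃ r : R, algebraMap R K r = z
  · obtain ⟨r, hr⟩ := hz
    obtain ⟨l, hl, w, t, h⟩ := exists_of_uu_neg E hval ha y
    refine ⟨E.uu a R r * l, mul_mem (uu_mem_La E a r) hl, w, t, ?_⟩
    rw [h, toK_mul, toK_uu, hr]
    simp only [mul_assoc]
  have hz1 : 1 + z ≠ 0 := fun h => hz ⟨-1, by rw [map_neg, map_one]; linear_combination -h⟩
  -- `(1 + z)⁻¹` is integral
  obtain ⟨s, hs⟩ : ∃ s : R, algebraMap R K s = (1 + z)⁻¹ := by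
    rcases hval (1 + z) with ⟨r, hr⟩ | h
    · exact absurd ⟨r - 1, by rw [map_sub, map_one, hr]; ring⟩ hz
    · exact h
  set v : Kˣ := Units.mk0 (1 + z) hz1 with hv
  have h1 := E.rank1 a ha (-z) (-1) v (by rw [hv, Units.val_mk0]; ring)
  have h2 := congrArg (fun g => g⁻¹) h1
  simp only [mul_inv_rev, ← E.uu_neg, neg_neg] at h2
  -- h2 : u_{-a}(1) u_a(z) = u_a(..) i⁻¹ u_{-a}(..)
  have hvi : ((v⁻¹ : Kˣ) : K) = (1 + z)⁻¹ := by rw [hv]; simp
  set c : TPt M K := TPt.cow (P.coroot a) v with hc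
  have h3 : E.uu a K z = E.uu (P.reflectionPerm a a) K (-1) *
      (E.uu a K (-(((v⁻¹ : Kˣ) : K) * -z)) * ((E.i K c)⁻¹ *
        E.uu (P.reflectionPerm a a) K (-(((v⁻¹ : Kˣ) : K) * -1)))) := by
    rw [← h2, ← mul_assoc, E.uu_neg, inv_mul_cancel, one_mul]
  rw [← i_inv, hvi, ← hs] at h3
  -- combine the last factor with `u_{-a}(y)`
  obtain ⟨l, hl, w, t, h⟩ := exists_of_uu_neg E hval ha
    (TPt.ch (P.root (P.reflectionPerm a a)) c⁻¹ * (-(algebraMap R K s * -1) + y))
  refine ⟨E.uu (P.reflectionPerm a a) R (-1) * (E.uu a R (1 - s) * l),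
    mul_mem (uu_neg_mem_La E a _) (mul_mem (uu_mem_La E a _) hl), w, t * c⁻¹, ?_⟩
  have h5 : -(algebraMap R K s * -z) = algebraMap R K (1 - s) := by
    rw [map_sub, map_one, hs]
    field_simp
    ring
  rw [toK_mul, toK_mul, toK_uu, toK_uu, map_neg, map_one, h3, h5, (E.i K).map_mul]
  have h6 : E.i K c⁻¹ * E.uu (P.reflectionPerm a a) K (-(algebraMap R K s * -1)) *
      E.uu (P.reflectionPerm a a) K y = toK l * E.uu a K w * E.i K t * E.i K c⁻¹ := by
    rw [mul_assoc, ← E.uu_add, i_mul_uu, h]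
  calc _ = E.uu (P.reflectionPerm a a) K (-1) * (E.uu a K (algebraMap R K (1 - s)) *
        (E.i K c⁻¹ * E.uu (P.reflectionPerm a a) K (-(algebraMap R K s * -1)) *
      E.uu (P.reflectionPerm a a) K y)) := by simp only [mul_assoc]
    _ = _ := by rw [h6]; simp only [mul_assoc]

/-- the set `G(R) U⁺(K) T(K)` -/
def Iwa (K : Type u) [Field K] [Algebra R K] : Set (Pt R A K) :=
  {g | ∃ (g₀ : Pt R A R) (x : idx → K) (t : TPt M K), g = toK g₀ * posP E x * E.i K t}

lemma iwa_one : (1 : Pt R A K) ∈ Iwa E K := ⟨1, 0, 1, by rw [toK, Pt.map_one]; simp⟩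

variable {E} in
lemma iwa_mul_i {g : Pt R A K} (hg : g ∈ Iwa E K) (s : TPt M K) : g * E.i K s ∈ Iwa E K := by
  obtain ⟨g₀, x, t, rfl⟩ := hg
  exact ⟨g₀, x, t * s, by rw [(E.i K).map_mul]; simp only [mul_assoc]⟩

variable {E} in
lemma iwa_mul_posP {g : Pt R A K} (hg : g ∈ Iwa E K) (y : idx → K) : g * posP E y ∈ Iwa E K := by
  obtain ⟨g₀, x, t, rfl⟩ := hg
  obtain ⟨z, hz, -⟩ := exists_posP_mul E x (fun a => TPt.ch (P.root a) t * y a)
  refine ⟨g₀, z, t, ?_⟩
  rw [mul_assoc, i_mul_posP, ← hz]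
  simp only [mul_assoc]

variable {E} in
include hval in
lemma iwa_mul_uu_neg {a : idx} (ha : a ∈ b.support) {g : Pt R A K} (hg : g ∈ Iwa E K) (y : K) :
    g * E.uu (P.reflectionPerm a a) K y ∈ Iwa E K := by
  classical
  obtain ⟨g₀, x, t, rfl⟩ := hg
  -- split off the `a`-coordinate on the right
  obtain ⟨x', h1, h2⟩ := exists_posP_mul E x (Pi.single a (-x a))
  have hx' : x' a = 0 := by rw [h2 a ha]; simp
  have h3 : posP E x = posP E x' * E.uu a K (x a) := by
    rw [← h1, posP_single E (isPos_simple ha), mul_assoc, ← E.uu_add, neg_add_cancel, E.uu_zero,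
      mul_one]
  obtain ⟨l, hl, w, s, h4⟩ := exists_of_uu_uu_neg E hval ha (x a)
    (TPt.ch (P.root (P.reflectionPerm a a)) t * y)
  obtain ⟨x'', hx'', h5⟩ := pres_La E (K := K) ha (inv_mem hl) x' hx'
  have h6 : posP E x' * toK l = toK l * posP E x'' := by
    rw [← h5, toK, toK, Pt.map_inv]
    group
  obtain ⟨v, h7, -⟩ := exists_posP_mul E x'' (Pi.single a w)
  rw [posP_single E (isPos_simple ha)] at h7
  refine ⟨g₀ * l, v, s * t, ?_⟩
  calc toK g₀ * posP E x * E.i K t * E.uu (P.reflectionPerm a a) K y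
      = toK g₀ * (posP E x' * (E.uu a K (x a) * E.uu (P.reflectionPerm a a) K
          (TPt.ch (P.root (P.reflectionPerm a a)) t * y)) * E.i K t) := by
        rw [mul_assoc _ (E.i K t), i_mul_uu, h3]; simp only [mul_assoc]
    _ = toK g₀ * (posP E x' * toK l * (E.uu a K w * (E.i K s * E.i K t))) := by
        rw [h4]; simp only [mul_assoc]
    _ = _ := by
        rw [h6, ← h7, toK_mul, (E.i K).map_mul]; simp only [mul_assoc]

variable {E} in
include hval in
lemma iwa_mul_evL {g : Pt R A K} (hg : g ∈ Iwa E K) (L : List (Lt b.support × K)) :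
    g * (mdl E K).evL L ∈ Iwa E K := by
  classical
  induction L generalizing g with
  | nil => simpa using hg
  | cons p L ih =>
    rw [Model.evL_cons, ← mul_assoc]
    apply ih
    obtain ⟨⟨sg, a⟩, x⟩ := p
    cases sg
    · exact iwa_mul_uu_neg hval a.2 hg x
    · have := iwa_mul_posP hg (Pi.single (a : idx) x)
      rwa [posP_single E (isPos_simple a.2)] at this

variable {E} in
include hval in
lemma iwa_mul_of_graph {g h : Pt R A K} (hg : g ∈ Iwa E K) (hh : (h, h) ∈ graph E E K) :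
    g * h ∈ Iwa E K := by
  obtain ⟨L, t, ht⟩ := hh
  have h1 : h = (mdl E K).evL L * E.i K t := congrArg Prod.fst ht
  rw [h1, ← mul_assoc]
  exact iwa_mul_i (iwa_mul_evL hval hg L) t


lemma cell_mem_graph (x : idx → K) (t : TPt M K) : (E.cell x t, E.cell x t) ∈ graph E E K := by
  obtain ⟨x', h⟩ := exists_cell_mem_graph E E K x t
  obtain ⟨L, s, hs⟩ := h
  have h1 : E.cell x' t = (mdl E K).evL L * E.i K s := congrArg Prod.fst hs
  have h2 : E.cell x t = (mdl E K).evL L * E.i K s := congrArg Prod.snd hs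
  exact ⟨L, s, by rw [← h2]⟩

include hval in
/-- **Iwasawa decomposition** `G(K) = G(R) U⁺(K) T(K)`. -/
theorem iwasawa [IsAlgClosed K] (g : Pt R A K) :
    ∃ (g₀ : Pt R A R) (x : idx → K) (t : TPt M K), g = toK g₀ * posP E x * E.i K t := by
  obtain ⟨x, t, x', t', h⟩ := exists_mul_mem_cell E g
  have hg : (g, g) ∈ graph E E K := by
    have h1 := (graph E E K).mul_mem ((graph E E K).inv_mem (cell_mem_graph E x t))
      (cell_mem_graph E x' t')
    rw [Prod.inv_mk, Prod.mk_mul_mk, ← h, inv_mul_cancel_left] at h1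
    exact h1
  have := iwa_mul_of_graph (E := E) hval (iwa_one E) hg
  rwa [one_mul] at this

end field

end Groth.Agent.Sga3.H807.Iwasawa
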