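import Groth.Agent.Sga3.H807.Iwasawa
import Groth.Agent.Sga3B.CellUP

/-!
# The limit argument

`p ∈ U⁺(K)`, `μ` a strictly dominant cocharacter; if `p μ(z) p⁻¹` is defined over `R[z, z⁻¹]` then
`p ∈ G(R)`.
-/

set_option autoImplicit false
set_option linter.unusedSectionVars false
universe u

namespace Groth.Agent.Sga3.H807.Lim

open Groth.Agent.Sga3B.Cell Groth.Agent.Sga3B.Word Groth.Agent.Sga3B Groth.Agent.Sga3.H807.Iwasawa
open Polynomial LaurentPolynomial

variable {idx M : Type} [Fintype idx] [AddCommGroup M] [Module.Free ℤ M]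
    [Module.Finite ℤ M] {P : RootPairing idx ℤ M (Module.Dual ℤ M)} {b : P.Base}
    {R A : Type u} [CommRing R] [CommRing A] [Algebra R A] [PtGrp R A]

/-- the inclusion of constants -/
noncomputable def cst (R B : Type u) [CommRing R] [CommRing B] [Algebra R B] : B →ₐ[R] B[T;T⁻¹] :=
  IsScalarTower.toAlgHom R B B[T;T⁻¹]

/-- change of coefficients -/
noncomputable def chg (R K : Type u) [CommRing R] [CommRing K] [Algebra R K] :
    R[T;T⁻¹] →ₐ[R] K[T;T⁻¹] :=
  AddMonoidAlgebra.mapAlgHom ℤ (Algebra.ofId R K)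

/-- polynomials in Laurent polynomials -/
noncomputable def pol (R K : Type u) [CommRing R] [CommRing K] [Algebra R K] :
    K[X] →ₐ[R] K[T;T⁻¹] :=
  (Polynomial.toLaurentAlg (R := K)).restrictScalars R

/-- evaluation at zero -/
noncomputable def ev0 (R K : Type u) [CommRing R] [CommRing K] [Algebra R K] : K[X] →ₐ[R] K :=
  (Polynomial.aeval (R := K) (0 : K)).restrictScalars R

/-- the torus point `μ(T)` -/
noncomputable def cochar {M : Type} [AddCommGroup M] (B : Type u) [CommRing B]
    (mu : M →+ ℤ) : TPt M B[T;T⁻¹] :=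
  MonoidHom.toHomUnits
    { toFun := fun m => T (mu m.toAdd)
      map_one' := by simp
      map_mul' := fun a b => by rw [toAdd_mul, map_add, T_add] }

@[simp] lemma ch_cochar (B : Type u) [CommRing B] (mu : M →+ ℤ) (m : M) :
    TPt.ch m (cochar B mu) = T (mu m) := rfl

lemma map_cochar (R K : Type u) [CommRing R] [CommRing K] [Algebra R K] (mu : M →+ ℤ) :
    TPt.map (chg R K) (cochar R mu) = cochar K mu := by
  apply TPt.ext_ch
  intro m
  rw [TPt.ch_map, ch_cochar, ch_cochar]
  change AddMonoidAlgebra.mapAlgHom ℤ (Algebra.ofId R K) (AddMonoidAlgebra.single _ _) = _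
  rw [AddMonoidAlgebra.mapAlgHom_single, map_one]
  rfl

lemma coeff_zero_of_eq {K : Type u} [CommRing K] [Algebra R K] {f : K[X]} {g : R[T;T⁻¹]}
    (h : pol R K f = chg R K g) : algebraMap R K (g.coeff 0) = f.coeff 0 := by
  have h1 := congrArg (fun z : K[T;T⁻¹] => z.coeff 0) h
  change (toLaurent f).coeff 0 = _ at h1
  rw [LaurentPolynomial.coeff_toLaurent] at h1
  have h2 : (f.toFinsupp.coeff.mapDomain (Nat.castEmbedding : ℕ ↪ ℤ)) 0 = f.coeff 0 :=
    Finsupp.mapDomain_apply (Nat.castEmbedding : ℕ ↪ ℤ).injective f.toFinsupp.coeff 0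
  rw [h2] at h1
  rw [h1]
  change _ = (AddMonoidAlgebra.mapAlgHom ℤ (Algebra.ofId R K) g).coeff 0
  rw [AddMonoidAlgebra.coeff_mapAlgHom]
  rfl

variable (E : PinCell P b R A) {K : Type u} [Field K] [Algebra R K]

/-- **limit argument** -/
theorem exists_of_conj (hinj : Function.Injective (algebraMap R K)) (mu : M →+ ℤ)
    (hmu : ∀ a, b.IsPos a → 0 < mu (P.root a)) (x : idx → K) (Φ : Pt R A R[T;T⁻¹])
    (h : Pt.map (chg R K) Φ = Pt.map (cst R K) (posP E x) * E.i _ (cochar K mu) *
      (Pt.map (cst R K) (posP E x))⁻¹) :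
    ∃ p₀ : Pt R A R, toK p₀ = posP E x := by
  -- the polynomial point
  let y : idx → K[X] := fun a => Polynomial.C (x a) * X ^ (mu (P.root a)).toNat
  let Θ : Pt R A K[X] := posP E (fun a => Polynomial.C (x a)) * (posP E y)⁻¹
  let Ψ : Pt R A R[T;T⁻¹] := Φ * (E.i _ (cochar R mu))⁻¹
  have hposmap : ∀ {B C : Type u} [CommRing B] [Algebra R B] [CommRing C] [Algebra R C]
      (φ : B →ₐ[R] C) (z : idx → B), Pt.map φ (posP E z) = posP E (fun a => φ (z a)) := by
    intro B C _ _ _ _ φ z
    rw [posP, posP, Pt.map_list_prod, List.map_map]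
    congr 1
    refine List.map_congr_left fun a _ => ?_
    exact E.uu_nat a φ (z a)
  have h1 : Pt.map (pol R K) Θ = Pt.map (chg R K) Ψ := by
    rw [Pt.map_mul, Pt.map_mul, Pt.map_inv, Pt.map_inv, h, E.i_nat, map_cochar, hposmap, hposmap,
      hposmap]
    have h2 : posP E (fun a => pol R K (y a)) =
        E.i _ (cochar K mu) * posP E (fun a => cst R K (x a)) * (E.i _ (cochar K mu))⁻¹ := by
      rw [i_conj_posP]
      have : ∀ L : List idx, (∀ a ∈ L, b.IsPos a) →
          L.map (fun a => E.uu a K[T;T⁻¹] (pol R K (y a))) =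
          L.map (fun a => E.uu a K[T;T⁻¹] (TPt.ch (P.root a) (cochar K mu) * cst R K (x a))) := by
        intro L hL
        refine List.map_congr_left fun a ha => ?_
        congr 1
        have h3 : (((mu (P.root a)).toNat : ℕ) : ℤ) = mu (P.root a) :=
          Int.toNat_of_nonneg (hmu a (hL a ha)).le
        change toLaurent (Polynomial.C (x a) * X ^ (mu (P.root a)).toNat) = _
        rw [Polynomial.toLaurent_C_mul_X_pow, h3, ch_cochar, mul_comm]
        rfl
      rw [posP, posP, this _ (fun a ha => (mem_posList b).mp ha)]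
    rw [h2]
    have h4 : (fun a => pol R K (Polynomial.C (x a))) = fun a => cst R K (x a) := by
      funext a
      change toLaurent (Polynomial.C (x a)) = _
      rw [Polynomial.toLaurent_C]
      rfl
    rw [h4]
    group
  have h5 : Pt.map (ev0 R K) Θ = posP E x := by
    rw [Pt.map_mul, Pt.map_inv, hposmap, hposmap]
    have h6 : posP E (fun a => ev0 R K (y a)) = 1 := by
      apply List.prod_eq_one
      intro z hz
      obtain ⟨a, ha, rfl⟩ := List.mem_map.mp hz
      have h3 : (mu (P.root a)).toNat ≠ 0 := by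
        have := hmu a ((mem_posList b).mp ha)
        lia
      have : ev0 R K (y a) = 0 := by
        change Polynomial.aeval (0 : K) (Polynomial.C (x a) * X ^ (mu (P.root a)).toNat) = 0
        simp [h3]
      change E.uu a K (ev0 R K (y a)) = 1
      rw [this, E.uu_zero]
    have h7 : (fun a => ev0 R K (Polynomial.C (x a))) = x := by
      funext a
      change Polynomial.aeval (0 : K) (Polynomial.C (x a)) = _
      simp
    rw [h6, h7, inv_one, mul_one]
  have h8 : ∀ a : A, ∃ r : R, algebraMap R K r = (posP E x).hom a := by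
    intro a
    refine ⟨(Ψ.hom a).coeff 0, ?_⟩
    have h9 : pol R K (Θ.hom a) = chg R K (Ψ.hom a) := congrArg (fun k : Pt R A _ => k.hom a) h1
    rw [coeff_zero_of_eq h9, ← h5]
    change _ = Polynomial.aeval (0 : K) (Θ.hom a)
    rw [Polynomial.coeff_zero_eq_aeval_zero]
  choose r hr using h8
  refine ⟨Pt.mk
    { toFun := r
      map_one' := hinj (by rw [hr, map_one, map_one])
      map_mul' := fun a c => hinj (by rw [map_mul, hr, hr, hr, map_mul])
      map_zero' := hinj (by rw [hr, map_zero, map_zero])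
      map_add' := fun a c => hinj (by rw [map_add, hr, hr, hr, map_add])
      commutes' := fun a => hinj (by rw [hr, AlgHom.commutes]; rfl) }, ?_⟩
  apply Pt.ext
  intro a
  exact hr a


/-- a strictly dominant cocharacter exists -/
lemma exists_dominant (b : P.Base) : ∃ mu : M →+ ℤ, ∀ a, b.IsPos a → 0 < mu (P.root a) := by
  obtain ⟨lam, n, hn, h⟩ := PinComb.exists_height_functional (b := b)
  refine ⟨lam, fun a ha => ?_⟩
  rw [h]
  exact mul_pos hn ha

/-- **Core of S4127.**  `R` valuation-like in the algebraically closed field `K`, `γ ∈ G(K)` such that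
`γ μ(z) γ⁻¹` is defined over `R[z, z⁻¹]` for a strictly dominant `μ`; then `γ ∈ G(R) T(K)`. -/
theorem exists_eq_mul_i [IsAlgClosed K] (hinj : Function.Injective (algebraMap R K))
    (hval : ∀ x : K, (∃ r : R, algebraMap R K r = x) ∨ ∃ r : R, algebraMap R K r = x⁻¹)
    (mu : M →+ ℤ) (hmu : ∀ a, b.IsPos a → 0 < mu (P.root a)) (γ : Pt R A K) (Φ : Pt R A R[T;T⁻¹])
    (h : Pt.map (chg R K) Φ = Pt.map (cst R K) γ * E.i _ (cochar K mu) * (Pt.map (cst R K) γ)⁻¹) :
    ∃ (g₀ : Pt R A R) (t : TPt M K), γ = toK g₀ * E.i K t := by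
  obtain ⟨g₀, x, t, hγ⟩ := iwasawa E hval γ
  have h1 : Pt.map (cst R K) (toK g₀) = Pt.map (chg R K) (Pt.map (cst R R) g₀) := by
    apply Pt.ext
    intro a
    change algebraMap K K[T;T⁻¹] (algebraMap R K (g₀.hom a)) =
      AddMonoidAlgebra.mapAlgHom ℤ (Algebra.ofId R K) (algebraMap R R[T;T⁻¹] (g₀.hom a))
    rw [AlgHom.commutes, ← IsScalarTower.algebraMap_apply]
  obtain ⟨p₀, hp₀⟩ := exists_of_conj E hinj mu hmu x
    ((Pt.map (cst R R) g₀)⁻¹ * Φ * Pt.map (cst R R) g₀) (by
      rw [Pt.map_mul, Pt.map_mul, Pt.map_inv, h, ← h1, hγ, Pt.map_mul, Pt.map_mul, E.i_nat]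
      have h2 : E.i K[T;T⁻¹] (TPt.map (cst R K) t) * E.i _ (cochar K mu) *
          (E.i K[T;T⁻¹] (TPt.map (cst R K) t))⁻¹ = E.i _ (cochar K mu) := by
        rw [← map_mul, ← map_inv, ← map_mul, mul_comm (TPt.map (cst R K) t), mul_assoc,
          mul_inv_cancel, mul_one]
      conv_rhs => rw [← h2]
      group)
  refine ⟨g₀ * p₀, t, ?_⟩
  rw [toK_mul, hp₀, hγ]

end Groth.Agent.Sga3.H807.Lim
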