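import Groth.Agent.Sga3.H807.SchCore
import Groth.Agent.Sga3.H832.TorExt

/-!
# The core for the base change of a split reductive group to a valuation ring

`G₀` split reductive over `S`, `s : Spec R ⟶ S`, `gK` a `K`-point of `bc s G₀` such that `int(gK)` maps the torus into
the group over `R`: `gK` is the product of an `R`-point and a `K`-point of the torus.
-/

set_option autoImplicit false
universe u

open CategoryTheory MonoidalCategory CartesianMonoidalCategory MonObj GrpObj AlgebraicGeometry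

namespace Groth.Agent.Sga3.H807.SchBc

open Groth.Agent.Sga3B.Cell Groth.Agent.Sga3B.PinMod Groth.Agent.Sga3B.PinFinal
  Groth.Agent.Sga3B Groth.Agent.Sga3.H807.Lim Groth.Agent.Sga3.H807.Iwasawa Groth.Agent.Sga3.H807.SchCore
  Groth.Agent.Sga3B.DSPts Groth.Agent.Sga3B.GaPts Groth.Agent.Sga3.H832.TorExt
open LaurentPolynomial

variable {S : Scheme.{u}} {G : Over S} [GrpObj G]

/-- **Core, with the universal point.** -/
theorem exists_eq_pts (D : Red.SplitRed G) {R : Type u} [CommRing R] (s : Spec (CommRingCat.of R) ⟶ S)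
    {K : Type u} [Field K] [Algebra R K] [IsAlgClosed K]
    (hinj : Function.Injective (algebraMap R K))
    (hval : ∀ x : K, (∃ r : R, algebraMap R K r = x) ∨ ∃ r : R, algebraMap R K r = x⁻¹)
    (g : tB s K ⟶ G)
    (hJ : ∀ τ : tB s R[T;T⁻¹] ⟶ D.T, ∃ J : tB s R[T;T⁻¹] ⟶ G, tMap s (chg R K) ≫ J =
      (tMap s (cst R K) ≫ g) * ((tMap s (chg R K) ≫ τ) ≫ D.i) * (tMap s (cst R K) ≫ g)⁻¹) :
    ∃ (g₀ : tB s R ⟶ G) (t : tB s K ⟶ D.T), g = (tMap s (Algebra.ofId R K) ≫ g₀) * (t ≫ D.i) := by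
  have : Nonempty S := ⟨s.base ((Spec.map (CommRingCat.ofHom (algebraMap R K))).base (⊥ : PrimeSpectrum K))⟩
  have : D.P.IsReduced := SplitReduced415.isReduced D
  obtain ⟨b⟩ := BaseZ.nonempty_base D.P
  let D' : Red.Pinning G := { D with base := b }
  obtain ⟨m⟩ := PinModelOf.nonempty_pinModel D' R s
  obtain ⟨mu, hmu⟩ := exists_dominant (M := D.M) (P := D.P) b
  -- the universal torus point over the Laurent polynomials
  let τR : tB s R[T;T⁻¹] ⟶ D.T :=
    dsEquiv (tB s R[T;T⁻¹]) D.M (chΓ s (cochar R mu)) ≫ D.split.inv.hom.hom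
  let τK : tB s K[T;T⁻¹] ⟶ D.T :=
    dsEquiv (tB s K[T;T⁻¹]) D.M (chΓ s (cochar K mu)) ≫ D.split.inv.hom.hom
  have hτ : tMap s (chg R K) ≫ τR = τK := by
    change tMap s (chg R K) ≫ dsEquiv _ D.M (chΓ s (cochar R mu)) ≫ D.split.inv.hom.hom = _
    rw [← Category.assoc, SchCore.tMap_dsEquiv, map_cochar]
  obtain ⟨J, hJ⟩ := hJ τR
  rw [hτ] at hJ
  have hmulpts : ∀ (B : Type u) [CommRing B] [Algebra R B] (x y : Pt R m.A B),
      m.pts B (x * y) = m.pts B x * m.pts B y := fun B _ _ x y => _root_.map_mul _ _ _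
  obtain ⟨g₀, t, h⟩ := exists_eq_mul_i m.E hinj hval mu hmu ((m.pts K).symm g)
    ((m.pts _).symm J) (by
    apply (m.pts _).injective
    rw [← m.pts_nat, hmulpts, hmulpts, _root_.map_inv, ← m.pts_nat, m.pts_i,
      MulEquiv.apply_symm_apply, MulEquiv.apply_symm_apply]
    rw [hJ]
    simp only [τK, Category.assoc]
    rfl)
  refine ⟨m.pts R g₀, dsEquiv (tB s K) D.M (chΓ s t) ≫ D.split.inv.hom.hom, ?_⟩
  rw [m.pts_nat]
  have h3 := congrArg (m.pts K) h
  rw [MulEquiv.apply_symm_apply, hmulpts, m.pts_i] at h3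
  rw [h3, Category.assoc]

section bc

variable {R K : Type u} [CommRing R] [Field K] [Algebra R K] (s : Spec (CommRingCat.of R) ⟶ S)

/-- an algebra as an object over the base -/
noncomputable abbrev ob (B : Type u) [CommRing B] [Algebra R B] : Over (Spec (CommRingCat.of R)) :=
  Over.mk (Spec.map (CommRingCat.ofHom (algebraMap R B)))

lemma obMap_aux {B C : Type u} [CommRing B] [Algebra R B] [CommRing C] [Algebra R C] (φ : B →ₐ[R] C) :
    Spec.map (CommRingCat.ofHom (φ : B →+* C)) ≫ Spec.map (CommRingCat.ofHom (algebraMap R B)) =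
      Spec.map (CommRingCat.ofHom (algebraMap R C)) := by
  rw [← Spec.map_comp, ← CommRingCat.ofHom_comp, AlgHom.comp_algebraMap]

/-- a homomorphism of algebras as a morphism over the base -/
noncomputable def obMap {B C : Type u} [CommRing B] [Algebra R B] [CommRing C] [Algebra R C] (φ : B →ₐ[R] C) :
    ob (R := R) C ⟶ ob (R := R) B :=
  Over.homMk (Spec.map (CommRingCat.ofHom (φ : B →+* C))) (obMap_aux φ)

lemma map_obMap {B C : Type u} [CommRing B] [Algebra R B] [CommRing C] [Algebra R C] (φ : B →ₐ[R] C) :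
    (Over.map s).map (obMap φ) = tMap s φ := rfl

lemma ofHom_self : CommRingCat.ofHom (algebraMap R R) = 𝟙 (CommRingCat.of R) := rfl

lemma e₁_aux : 𝟙 (Spec (CommRingCat.of R)) ≫ Spec.map (CommRingCat.ofHom (algebraMap R R)) ≫ s =
    𝟙 (Spec (CommRingCat.of R)) ≫ s := by
  rw [ofHom_self, Spec.map_id, Category.id_comp]

/-- the unit object maps to the test object of `R` -/
noncomputable def e₁ : (Over.map s).obj (𝟙_ (Over (Spec (CommRingCat.of R)))) ⟶ tB s R :=
  Over.homMk (𝟙 (Spec (CommRingCat.of R))) (e₁_aux s)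

lemma e₁_left : (e₁ s).left = 𝟙 (Spec (CommRingCat.of R)) := rfl

lemma toUnit_e₁ : (Over.map s).map (toUnit (gen R K)) ≫ e₁ s = tMap s (Algebra.ofId R K) := by
  ext1
  rw [Over.comp_left, e₁_left, tMap_left]
  exact Category.comp_id _

/-- **Core over the base change.** -/
theorem exists_eq_bc (D : Red.SplitRed G) [IsAlgClosed K]
    (hinj : Function.Injective (algebraMap R K))
    (hval : ∀ x : K, (∃ r : R, algebraMap R K r = x) ∨ ∃ r : R, algebraMap R K r = x⁻¹)
    (gK : gen R K ⟶ Red.bc s G) (j : Red.bc s D.T ⟶ Red.bc s G)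
    (key : ∀ (X : Over (Spec (CommRingCat.of R))) (x : X ⟶ gen R K) (t : X ⟶ Red.bc s D.T),
      (x ≫ gK) * (t ≫ (Over.pullback s).map D.i) * (x ≫ gK)⁻¹ = t ≫ j) :
    ∃ (n₀ : 𝟙_ (Over (Spec (CommRingCat.of R))) ⟶ Red.bc s G) (t : gen R K ⟶ Red.bc s D.T),
      gK = (toUnit _ ≫ n₀) * (t ≫ (Over.pullback s).map D.i) := by
  obtain ⟨g₀, t, h⟩ := exists_eq_pts D s (K := K) hinj hval ((bcEquiv s (gen R K) G).symm gK) (fun τ => by
    refine ⟨(bcEquiv s (ob R[T;T⁻¹]) G).symm ((bcEquiv s (ob R[T;T⁻¹]) D.T) τ ≫ j), ?_⟩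
    rw [← map_obMap, ← map_obMap, bcEquiv_symm_naturality, bcEquiv_symm_naturality]
    have e1 : ((Over.map s).map (obMap (chg R K)) ≫ τ) ≫ D.i =
        (bcEquiv s (ob K[T;T⁻¹]) G).symm ((obMap (chg R K) ≫ bcEquiv s (ob R[T;T⁻¹]) D.T τ) ≫
          (Over.pullback s).map D.i) := by
      rw [bcEquiv_naturality, bcEquiv_comp, MulEquiv.symm_apply_apply]
    rw [← Category.assoc (obMap (chg R K)), ← key _ (obMap (cst R K))]
    change _ = _ * (((Over.map s).map (obMap (chg R K)) ≫ τ) ≫ D.i) * _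
    rw [e1, map_mul, map_mul, map_inv])
  refine ⟨bcEquiv s (𝟙_ _) G (e₁ s ≫ g₀), bcEquiv s (gen R K) D.T t, ?_⟩
  rw [bcEquiv_naturality, ← Category.assoc, toUnit_e₁, bcEquiv_comp, ← map_mul, ← h]
  exact ((bcEquiv s (gen R K) G).apply_symm_apply gK).symm

end bc

end Groth.Agent.Sga3.H807.SchBc
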