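import Groth.Agent.Sga3.H807.Lim
import Groth.Agent.Sga3B.PinModelOf
import Groth.Agent.Sga3B.BaseZ
import Groth.Agent.Sga3B.SplitRedField415

/-!
# Scheme form of the core: a point normalising the torus into `G` over a valuation ring
-/

set_option autoImplicit false
universe u

open CategoryTheory MonoidalCategory CartesianMonoidalCategory MonObj GrpObj AlgebraicGeometry

namespace Groth.Agent.Sga3.H807.SchCore

open Groth.Agent.Sga3B.Cell Groth.Agent.Sga3B.PinMod Groth.Agent.Sga3B.PinFinal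
  Groth.Agent.Sga3B Groth.Agent.Sga3.H807.Lim Groth.Agent.Sga3.H807.Iwasawa
  Groth.Agent.Sga3B.DSPts Groth.Agent.Sga3B.GaPts
open LaurentPolynomial

variable {S : Scheme.{u}} {G : Over S} [GrpObj G]

section

variable {R : Type u} [CommRing R] (s : Spec (CommRingCat.of R) ⟶ S)
variable {B C : Type u} [CommRing B] [Algebra R B] [CommRing C] [Algebra R C]

/-- naturality of the torus points -/
lemma tMap_dsEquiv {M : Type} [AddCommGroup M] (φ : B →ₐ[R] C) (t : TPt M B) :
    tMap s φ ≫ dsEquiv (tB s B) M (chΓ s t) = dsEquiv (tB s C) M (chΓ s (TPt.map φ t)) := by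
  rw [dsEquiv_naturality]
  congr 1
  refine MonoidHom.ext fun m => ?_
  change (Spec.map (CommRingCat.ofHom (φ : B →+* C))).appTop
    ((Scheme.ΓSpecIso (CommRingCat.of B)).inv ((t m : Bˣ) : B)) =
    (Scheme.ΓSpecIso (CommRingCat.of C)).inv (φ ((t m : Bˣ) : B))
  have h := Scheme.ΓSpecIso_inv_naturality (CommRingCat.ofHom (φ : B →+* C))
  exact (congrArg (fun k => k.hom ((t m : Bˣ) : B)) h).symm

end

/-- **Core, scheme form.** -/
theorem exists_eq (D : Red.SplitRed G) {R : Type u} [CommRing R] (s : Spec (CommRingCat.of R) ⟶ S)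
    {K : Type u} [Field K] [Algebra R K] [IsAlgClosed K]
    (hinj : Function.Injective (algebraMap R K))
    (hval : ∀ x : K, (∃ r : R, algebraMap R K r = x) ∨ ∃ r : R, algebraMap R K r = x⁻¹)
    (g : tB s K ⟶ G) (j : tB s R ⊗ D.T ⟶ G)
    (hj : (tMap s (Algebra.ofId R K) ▷ D.T) ≫ j =
      (fst (tB s K) D.T ≫ g) * (snd (tB s K) D.T ≫ D.i) * (fst (tB s K) D.T ≫ g)⁻¹) :
    ∃ (g₀ : tB s R ⟶ G) (t : tB s K ⟶ D.T), g = (tMap s (Algebra.ofId R K) ≫ g₀) * (t ≫ D.i) := by
  have : Nonempty S := ⟨s.base ((Spec.map (CommRingCat.ofHom (algebraMap R K))).base (⊥ : PrimeSpectrum K))⟩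
  have : D.P.IsReduced := SplitReduced415.isReduced D
  obtain ⟨b⟩ := BaseZ.nonempty_base D.P
  let D' : Red.Pinning G := { D with base := b }
  obtain ⟨m⟩ := PinModelOf.nonempty_pinModel D' R s
  obtain ⟨mu, hmu⟩ := exists_dominant (M := D.M) (P := D.P) b
  -- the universal torus point over the Laurent polynomials
  let τR : tB s R[T;T⁻¹] ⟶ D.T :=
    dsEquiv (tB s R[T;T⁻¹]) D.M (chΓ s (cochar R mu)) ≫ D.split.inv.hom.hom
  let τK : tB s K[T;T⁻¹] ⟶ D.T :=
    dsEquiv (tB s K[T;T⁻¹]) D.M (chΓ s (cochar K mu)) ≫ D.split.inv.hom.hom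
  have hτ : tMap s (chg R K) ≫ τR = τK := by
    change tMap s (chg R K) ≫ dsEquiv _ D.M (chΓ s (cochar R mu)) ≫ D.split.inv.hom.hom = _
    rw [← Category.assoc, tMap_dsEquiv, map_cochar]
  have hmulpts : ∀ (B : Type u) [CommRing B] [Algebra R B] (x y : Pt R m.A B),
      m.pts B (x * y) = m.pts B x * m.pts B y := fun B _ _ x y => _root_.map_mul _ _ _
  have hc : tMap s (cst R K) ≫ tMap s (Algebra.ofId R K) = tMap s (chg R K) ≫ tMap s (cst R R) := by
    ext1
    rw [Over.comp_left, Over.comp_left, tMap_left, tMap_left, tMap_left, tMap_left,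
      ← Spec.map_comp, ← Spec.map_comp, ← CommRingCat.ofHom_comp, ← CommRingCat.ofHom_comp]
    congr 2
    refine RingHom.ext fun a => ?_
    change algebraMap K K[T;T⁻¹] (algebraMap R K a) = chg R K (algebraMap R R[T;T⁻¹] a)
    rw [AlgHom.commutes, ← IsScalarTower.algebraMap_apply]
  obtain ⟨g₀, t, h⟩ := exists_eq_mul_i m.E hinj hval mu hmu ((m.pts K).symm g)
    ((m.pts _).symm (lift (tMap s (cst R R)) τR ≫ j)) (by
    apply (m.pts _).injective
    rw [← m.pts_nat, hmulpts, hmulpts, _root_.map_inv, ← m.pts_nat, m.pts_i,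
      MulEquiv.apply_symm_apply, MulEquiv.apply_symm_apply]
    have h1 := congrArg (fun k => lift (tMap s (cst R K)) τK ≫ k) hj
    simp only [MonObj.comp_mul, GrpObj.comp_inv, lift_fst_assoc, lift_snd_assoc] at h1
    have h2 : lift (tMap s (cst R K)) τK ≫ (tMap s (Algebra.ofId R K) ▷ D.T) =
        tMap s (chg R K) ≫ lift (tMap s (cst R R)) τR := by
      rw [lift_whiskerRight, comp_lift, hτ, hc]
    rw [← Category.assoc, h2, Category.assoc] at h1
    rw [h1]
    simp only [τK, Category.assoc]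
    rfl)
  refine ⟨m.pts R g₀, dsEquiv (tB s K) D.M (chΓ s t) ≫ D.split.inv.hom.hom, ?_⟩
  rw [m.pts_nat]
  have h3 := congrArg (m.pts K) h
  rw [MulEquiv.apply_symm_apply, hmulpts, m.pts_i] at h3
  rw [h3, Category.assoc]

end Groth.Agent.Sga3.H807.SchCore
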