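import Groth.Agent.Sga3.H807.TorRed
import Groth.Agent.Sga3.H786.TCAff
import Groth.Agent.Sga3.H804.MtNbhd
import Groth.Agent.Sga3.H832.Asm4144
import Groth.Agent.Sga3B.AdAff

/-!
# The torus criterion from S4125

A smooth quasi-compact group scheme all of whose geometric fibres are tori is a torus, granting the local
affineness theorem for groups with a reductive geometric fibre.
-/

set_option autoImplicit false

universe u

open CategoryTheory MonoidalCategory CartesianMonoidalCategory MonObj GrpObj AlgebraicGeometry Limits

namespace Groth.Agent.Sga3.H807.TCOf4125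

open Groth.Agent.Sga3.H786

/-- The statement of S4125. -/
def Stmt4125 : Prop :=
  ∀ (S : Scheme.{u}) (G : Over S) [GrpObj G] [Smooth G.hom] [QuasiCompact G.hom] [QuasiSeparated G.hom]
    (_ : ∀ s : S, IsAffine (pullback G.hom (S.fromSpecResidueField s)))
    (_ : ∀ s : S, _root_.IsConnected (G.hom.base ⁻¹' {s})) (s : S)
    (_ : Red.IsReductiveOver (AlgebraicClosure (S.residueField s)) (Red.geomFibre s G)),
    ∃ U : S.Opens, s ∈ U ∧ Red.IsReductive (Red.bc U.ι G)

/-- **The torus criterion** from S4125. -/
theorem torusCrit (h25 : Stmt4125.{u}) : H804.MtNbhd.TorusCrit.{u} := by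
  intro S C _ _ _ h
  have hconn : ∀ s : S, _root_.IsConnected (C.hom.base ⁻¹' {s}) := fun s =>
    Sga3B.AdAff.isConnected_fibre C s (H784.Neutral.connectedSpace_of_isTorus (h s))
  have hsep : IsSeparated C.hom := H832.Asm4144.isSeparated_of_connected C hconn
  have haff : ∀ s : S, IsAffine (pullback C.hom (S.fromSpecResidueField s)) := fun s => by
    have h1 := TCAff.isTorus_fibre C s (h s)
    have h2 := Sga3B.TorusAlgClosed.isAffineHom_of_isTorus h1
    exact isAffine_of_isAffineHom (Red.bc (S.fromSpecResidueField s) C).hom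
  choose U hsU hU using fun s => h25 S C haff hconn s (TorRed.isReductiveOver_of_isTorus (h s))
  have hC : IsAffineHom C.hom := by
    refine (IsZariskiLocalAtTarget.iff_of_iSup_eq_top (P := @IsAffineHom) U ?_).mpr fun s => ?_
    · rw [eq_top_iff]
      intro s _
      exact TopologicalSpace.Opens.mem_iSup.mpr ⟨s, hsU s⟩
    · have h1 : IsAffineHom (pullback.snd C.hom (U s).ι) := (hU s).1
      have h2 := (isPullback_morphismRestrict C.hom (U s)).flip
      rw [← (IsPullback.of_hasPullback C.hom (U s).ι).isoIsPullback_inv_snd _ _ h2]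
      infer_instance
  exact TCAff.isTorus_of_isAffineHom C h

end Groth.Agent.Sga3.H807.TCOf4125
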