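import Groth.Agent.Sga3.H807.TorImm
import Groth.Agent.Sga3.H832.Asm4144

/-! # (T) for S4144, S4145, S4127 -/

set_option autoImplicit false
universe u
open CategoryTheory MonoidalCategory CartesianMonoidalCategory MonObj GrpObj AlgebraicGeometry Limits

namespace Groth.Agent.Sga3.H807.TProp

/-- (T): integral points of `H` whose generic and closed points are in a split torus are in the torus. -/
theorem tProp : H832.Asm4144.TProp.{u} := by
  intro R K _ _ _ _ _ _ _ H T _ _ r hr v _ _ t h ht hc
  exact TorImm.torus_lift hr v t h ht hc

end Groth.Agent.Sga3.H807.TProp
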