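import Groth.Agent.Sga3.H824.TorVal
import Groth.Agent.Sga3.H832.TorExt
import Mathlib.Algebra.Group.UniqueProds.VectorSpace

/-!
# A monomorphic homomorphism from a split torus is an immersion; the torus lemma for split tori
-/

set_option autoImplicit false

universe u

open CategoryTheory MonoidalCategory CartesianMonoidalCategory MonObj GrpObj AlgebraicGeometry Limits
open IsLocalRing

namespace Groth.Agent.Sga3.H807.TorImm

open Groth.Agent.Sga3.H824 Groth.Agent.Sga3.H824.DsPt Groth.Agent.Sga3.H832.TorExt

/-- finitely generated free abelian groups have unique products -/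
lemma uniqueProds (M : Type) [AddCommGroup M] [Module.Free ℤ M] : UniqueProds (Multiplicative M) := by
  have h : UniqueSums M := by
    let e := (Module.Free.chooseBasis ℤ M).repr.toAddEquiv
    exact (e.uniqueSums_iff).mpr inferInstance
  infer_instance

section

variable {S : Scheme.{u}} {M : Type} [AddCommGroup M] [Module.Free ℤ M]

/-- A monomorphic homomorphism from `D_S(M)`, `M` free, is an immersion. -/
theorem isImmersion_ds {H : Over S} [GrpObj H] (u : Red.DS S M ⟶ H) [IsMonHom u] [Mono u]
    [QuasiCompact u.left] [LocallyOfFiniteType u.left] : IsImmersion u.left := by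
  have := uniqueProds M
  refine ImmVal.isImmersion_of_valuative u.left fun R _ _ _ K _ _ _ y a b ha hb => ?_
  have hw := Over.w u
  let h : Over.mk (y ≫ H.hom) ⟶ H := Over.homMk y
  let tK : Over.mk (Spec.map (CommRingCat.ofHom (algebraMap R K)) ≫ y ≫ H.hom) ⟶ Red.DS S M :=
    Over.homMk a (by
      have h2 : a ≫ u.left ≫ H.hom = (Spec.map (CommRingCat.ofHom (algebraMap R K)) ≫ y) ≫ H.hom := by
        rw [← Category.assoc, ha]
      rw [hw] at h2
      rw [h2, Category.assoc]; rfl)
  let tk : Over.mk (Spec.map (CommRingCat.ofHom (residue R)) ≫ y ≫ H.hom) ⟶ Red.DS S M :=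
    Over.homMk b (by
      have h2 : b ≫ u.left ≫ H.hom = (Spec.map (CommRingCat.ofHom (residue R)) ≫ y) ≫ H.hom := by
        rw [← Category.assoc, hb]
      rw [hw] at h2
      rw [h2, Category.assoc]; rfl)
  obtain ⟨t, ht⟩ := TorVal.exists_lift u (y ≫ H.hom) h tK (by ext1; exact ha) tk (by ext1; exact hb)
  exact ⟨t.left, congrArg (fun f => f.left) ht⟩

/-- A monomorphic homomorphism from a split torus is an immersion. -/
theorem isImmersion_of_split {T H : Over S} [GrpObj T] [GrpObj H] (hM : Red.IsSplitTorusWith M T)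
    (u : T ⟶ H) [IsMonHom u] [Mono u]
    [QuasiCompact u.left] [LocallyOfFiniteType u.left] : IsImmersion u.left := by
  obtain ⟨e⟩ := hM
  let e' : T ≅ Red.DS S M := (Grp.forget _).mapIso e
  have he : IsMonHom e'.inv := e.inv.hom.isMonHom_hom
  let v : Red.DS S M ⟶ H := e'.inv ≫ u
  have h1 : v.left = e'.inv.left ≫ u.left := rfl
  have h2 : IsIso e'.inv.left := inferInstance
  have h3 : QuasiCompact v.left := by rw [h1]; infer_instance
  have h4 : LocallyOfFiniteType v.left := by rw [h1]; infer_instance
  have h5 : IsImmersion v.left := isImmersion_ds v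
  have h6 : u.left = e'.hom.left ≫ v.left := by
    rw [h1, ← Category.assoc, ← Over.comp_left, e'.hom_inv_id, Over.id_left, Category.id_comp]
  rw [h6]
  infer_instance

end

section

variable {R K : Type u} [CommRing R] [IsDomain R] [ValuationRing R] [Field K] [Algebra R K]
  [IsFractionRing R K] {M : Type} [AddCommGroup M] [Module.Free ℤ M]

/-- torus lemma, `h ∈ H(R)` with generic and closed point in the split torus -/
theorem torus_lift {T H : Over (Spec (CommRingCat.of R))} [GrpObj T] [GrpObj H]
    (hM : Red.IsSplitTorusWith M T) (v : T ⟶ H) [IsMonHom v] [Mono v]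
    (t : gen R K ⟶ T) (h : 𝟙_ (Over (Spec (CommRingCat.of R))) ⟶ H) (ht : t ≫ v = toUnit _ ≫ h)
    (hc : h.left (closedPoint R) ∈ Set.range v.left) :
    ∃ t' : 𝟙_ (Over (Spec (CommRingCat.of R))) ⟶ T, t' ≫ v = h := by
  have := uniqueProds M
  obtain ⟨e⟩ := hM
  let e' : T ≅ Red.DS _ M := (Grp.forget _).mapIso e
  have he : IsMonHom e'.inv := e.inv.hom.isMonHom_hom
  let w : Red.DS _ M ⟶ H := e'.inv ≫ v
  have hmono : Mono v.left := inferInstance
  -- the closed point
  obtain ⟨x, hx⟩ := ImmVal.exists_lift_of_mem_range v.left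
    (Spec.map (CommRingCat.ofHom (residue R)) ≫ h.left) (closedPoint (ResidueField R)) (by
      rw [Scheme.Hom.comp_apply]
      have : (Spec.map (CommRingCat.ofHom (residue R))) (closedPoint (ResidueField R)) = closedPoint R :=
        IsLocalRing.comap_closedPoint (residue R)
      rw [this]
      exact hc)
  have hw := Over.w v
  have hhw : h.left ≫ H.hom = 𝟙 _ := Over.w h
  let h' : Over.mk (𝟙 (Spec (CommRingCat.of R))) ⟶ H := h
  let tK : Over.mk (Spec.map (CommRingCat.ofHom (algebraMap R K)) ≫ 𝟙 _) ⟶ Red.DS _ M :=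
    Over.homMk t.left (by rw [Over.w t]; exact (Category.comp_id _).symm) ≫ e'.hom
  let tk : Over.mk (Spec.map (CommRingCat.ofHom (residue R)) ≫ 𝟙 _) ⟶ Red.DS _ M :=
    Over.homMk x (by
      rw [← hw, ← Category.assoc, hx, Category.assoc, hhw]; rfl) ≫ e'.hom
  obtain ⟨t', ht'⟩ := TorVal.exists_lift w (𝟙 _) h' tK (by
    simp only [tK, w, Category.assoc, e'.hom_inv_id_assoc]
    ext1
    exact (congrArg (fun f => f.left) ht).trans rfl) tk (by
    simp only [tk, w, Category.assoc, e'.hom_inv_id_assoc]
    ext1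
    exact hx)
  exact ⟨t' ≫ e'.inv, by rw [Category.assoc]; exact ht'⟩

end

end Groth.Agent.Sga3.H807.TorImm
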