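import Groth.Agent.Agf.H609.MaxTorSch
import Groth.Agent.Agf.H609.GrothFix
import Groth.Agent.Sga3.H784.Neutral

/-!
# Tori over an algebraically closed field are reductive
-/

set_option autoImplicit false

universe u

open CategoryTheory MonoidalCategory CartesianMonoidalCategory MonObj GrpObj AlgebraicGeometry
open Groth.Agent.Books.AffBridge Groth.Agent.Books.AffBridge2

namespace Groth.Agent.Sga3.H807.TorRed

open Groth.Agent.Sga3B.RG Groth.Agent.Sga3B.RG.BrPts Groth.Agent.Sga3B.RG.BrTorus
open Groth.Agent.Books.AlgPts Groth.Agent.Books.AlgPtsSmooth Groth.Agent.Books.AlgPtsGrp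
open Groth.Agent.Agf.H609

variable {K : Type u} [Field K] [IsAlgClosed K]

/-- Smooth connected closed subgroups of tori are tori. -/
theorem isTorus_of_closed {T U : Over (Spec (CommRingCat.of K))} [GrpObj T] [GrpObj U] (hT : Red.IsTorus T)
    (i : U ⟶ T) [IsMonHom i] [IsClosedImmersion i.left] [Smooth U.hom] [ConnectedSpace U.left] :
    Red.IsTorus U := by
  have h1 : Smooth T.hom := Groth.Agent.Sga3B.TorusAlgClosed.smooth_of_isTorus hT
  have h2 : IsAffineHom T.hom := Groth.Agent.Sga3B.TorusAlgClosed.isAffineHom_of_isTorus hT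
  have h3 : IsAffine T.left := isAffine_of_isAffineHom T.hom
  obtain ⟨A, _, _, e, he, hft⟩ := BrHc.exists_hopf_ft T
  have hei : IsIso e.hom.left := inferInstanceAs (IsIso ((Over.forget _).map e.hom))
  have hci : IsClosedImmersion (i ≫ e.hom).left := by
    rw [Over.comp_left]
    infer_instance
  refine MaxTorSch.isTorus_of_isTorusSub (i ≫ e.hom) ?_
  exact GrothFix.isTorusSub_of_isConn_le (isTorusSub_ptsSub e.hom hT) (ptsSub_le_of_comp _ _ i rfl)
    (exists_iso_vanIdeal (i ≫ e.hom)).1 (isConn_ptsSub (i ≫ e.hom))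

/-- **Tori are reductive.** -/
theorem isReductiveOver_of_isTorus {T : Over (Spec (CommRingCat.of K))} [GrpObj T] (hT : Red.IsTorus T) :
    Red.IsReductiveOver K T := by
  have h1 : Smooth T.hom := Groth.Agent.Sga3B.TorusAlgClosed.smooth_of_isTorus hT
  have h2 : IsAffineHom T.hom := Groth.Agent.Sga3B.TorusAlgClosed.isAffineHom_of_isTorus hT
  have h3 : IsAffine T.left := isAffine_of_isAffineHom T.hom
  refine ⟨h3, h1, H784.Neutral.connectedSpace_of_isTorus hT, ?_⟩
  intro U _ i _ hci hsm hcn _ hU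
  have h4 := isTorus_of_closed hT i
  exact hU U (𝟙 U) h4

end Groth.Agent.Sga3.H807.TorRed
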