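import Groth.Agent.Sga3.H807.SchBc
import Groth.Agent.Sga3B.DsBc
import Groth.Agent.Sga3.H807.TProp
import Groth.Agent.Sga3.H832.ClosedLift
import Groth.Agent.Sga3B.TorClosed636

/-!
# Integral points of `H` which are generically in a split reductive subgroup `G`

Over a valuation ring `R` with algebraically closed fraction field `K`, granting (A) of `Asm4144`:
`G(K) ∩ H(R) = G(R)` for `H` separated of finite type; in general the points of `H(R)` whose generic and closed
points are in `G` are in `G(R)`.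
-/

set_option autoImplicit false
universe u
open CategoryTheory MonoidalCategory CartesianMonoidalCategory MonObj GrpObj AlgebraicGeometry Limits

namespace Groth.Agent.Sga3.H807.ValCore

open Groth.Agent.Sga3.H832 Groth.Agent.Sga3.H832.TorExt Groth.Agent.Sga3.H832.ClosedCore
  Groth.Agent.Sga3.H832.HensPt Groth.Agent.Sga3.H832.Asm4144
open Groth.Agent.Sga3B Groth.Agent.Sga3B.MaxTorBc636

variable {R K : Type u} [CommRing R] [Field K] [Algebra R K]
  [IsDomain R] [ValuationRing R] [IsAlgClosed K] [IsFractionRing R K]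
  {S : Scheme.{u}} {G : Over S} [GrpObj G] (s : Spec (CommRingCat.of R) ⟶ S)

/-- a maximal torus of a reductive group is self-centralizing -/
lemma selfC_of_splitRed {S : Scheme.{u}} {G : Over S} [GrpObj G] (D : Red.SplitRed G) : SelfC D.i := by
  intro X g h
  exact ((TorClosed636.isCentralizerOf_self D.reductive D.maximalTorus).2.2 X g).2 h

/-- **Immersion core.** -/
theorem lift_imm (hA : AProp.{u}) (D : Red.SplitRed G) {H : Over (Spec (CommRingCat.of R))} [GrpObj H]
    (u : Red.bc s G ⟶ H) [IsMonHom u] [Mono u] [QuasiCompact u.left] [LocallyOfFiniteType u.left]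
    (h : 𝟙_ (Over (Spec (CommRingCat.of R))) ⟶ H) (gK : gen R K ⟶ Red.bc s G) (hgK : gK ≫ u = toUnit _ ≫ h)
    (gk : clo R ⟶ Red.bc s G) (hgk : gk ≫ u = toUnit _ ≫ h) :
    ∃ g : 𝟙_ (Over (Spec (CommRingCat.of R))) ⟶ Red.bc s G, g ≫ u = h := by
  have h1 : IsAffineHom G.hom := D.reductive.1
  have h2 : Smooth G.hom := D.reductive.2.1
  have h1' : IsAffineHom (Red.bc s G).hom := inferInstanceAs (IsAffineHom (pullback.snd G.hom s))
  have h2' : Smooth (Red.bc s G).hom := inferInstanceAs (Smooth (pullback.snd G.hom s))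
  have h3 : IsMonHom D.i := D.maximalTorus.1
  have h4 : Mono D.i := D.maximalTorus.2.1
  exact lift_core hA TProp.tProp R K u ((Over.pullback s).map D.i) (TorusBc.isTorus_bc s D.maximalTorus.2.2.1)
    (selfC_bc _ (selfC_bc s (selfC_of_splitRed D))) h gK hgK gk hgk

/-- **Closedness core.** -/
theorem lift_closed (hA : AProp.{u}) (D : Red.SplitRed G) {H : Over (Spec (CommRingCat.of R))} [GrpObj H]
    [IsSeparated H.hom] [LocallyOfFiniteType H.hom] [QuasiCompact H.hom]
    (u : Red.bc s G ⟶ H) [IsMonHom u] [Mono u]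
    (h : 𝟙_ (Over (Spec (CommRingCat.of R))) ⟶ H) (gK : gen R K ⟶ Red.bc s G) (hgK : gK ≫ u = toUnit _ ≫ h) :
    ∃ g : 𝟙_ (Over (Spec (CommRingCat.of R))) ⟶ Red.bc s G, g ≫ u = h := by
  have h1 : IsAffineHom G.hom := D.reductive.1
  have h2 : Smooth G.hom := D.reductive.2.1
  have h1' : IsAffineHom (Red.bc s G).hom := inferInstanceAs (IsAffineHom (pullback.snd G.hom s))
  have h2' : Smooth (Red.bc s G).hom := inferInstanceAs (Smooth (pullback.snd G.hom s))
  have h3 : IsMonHom D.i := D.maximalTorus.1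
  have h4 : Mono D.i := D.maximalTorus.2.1
  -- the torus over `R`
  obtain ⟨T, hT, i, hi, hi', hT0, hM, hdec⟩ : ∃ (T : Over (Spec (CommRingCat.of R))) (_ : GrpObj T)
      (i : T ⟶ Red.bc s G) (_ : IsMonHom i) (_ : Mono i), Red.IsTorus T ∧ Red.IsSplitTorusWith D.M T ∧
      ∀ (gK : gen R K ⟶ Red.bc s G) (j : T ⟶ Red.bc s G),
        (∀ (X : Over (Spec (CommRingCat.of R))) (x : X ⟶ gen R K) (t : X ⟶ T),
          (x ≫ gK) * (t ≫ i) * (x ≫ gK)⁻¹ = t ≫ j) →
        ∃ (n₀ : 𝟙_ (Over (Spec (CommRingCat.of R))) ⟶ Red.bc s G) (t : gen R K ⟶ T),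
          gK = (toUnit _ ≫ n₀) * (t ≫ i) := by
    refine ⟨Red.bc s D.T, inferInstance, (Over.pullback s).map D.i, inferInstance, inferInstance,
      TorusBc.isTorus_bc s D.maximalTorus.2.2.1,
      ⟨BcIso.bcMapIso s D.split ≪≫ DsBc.constIso s (Red.diag (ULift.{u} ℤ) D.M)⟩, fun gK j key => ?_⟩
    refine SchBc.exists_eq_bc s D (IsFractionRing.injective R K) (fun x => ?_) gK j key
    rcases ValuationRing.isInteger_or_isInteger R x with h | h
    · exact Or.inl h
    · exact Or.inr h
  have i1 : HenselianLocalRing R := HensVal.henselianLocalRing R K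
  have i2 : IsAlgClosed (IsLocalRing.ResidueField R) := HensVal.isAlgClosed_residueField R K
  obtain ⟨r, hr⟩ := ValExt.exists_isSplitTorusWith hT0
  have h5 : Mono (i ≫ u) := mono_comp i u
  have h6 : Smooth T.hom := TorusAlgClosed.smooth_of_isTorus hT0
  have h7 : IsAffineHom T.hom := TorusAlgClosed.isAffineHom_of_isTorus hT0
  have q1 : QuasiCompact u.left := quasiCompact_left (Or.inl inferInstance) u
  have q2 : LocallyOfFiniteType (u.left ≫ H.hom) := by rw [Over.w]; infer_instance
  have q3 : LocallyOfFiniteType u.left := locallyOfFiniteType_of_comp u.left H.hom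
  have q4 : QuasiCompact (i ≫ u).left := quasiCompact_left (Or.inl inferInstance) (i ≫ u)
  have q5 : LocallyOfFiniteType ((i ≫ u).left ≫ H.hom) := by rw [Over.w]; infer_instance
  have q6 : LocallyOfFiniteType (i ≫ u).left := locallyOfFiniteType_of_comp (i ≫ u).left H.hom
  -- the conjugate torus is in `G`
  have i3 : IsMonHom (cj h (i ≫ u)) := isMonHom_cj h (i ≫ u)
  obtain ⟨j, hj⟩ := hA R K (Red.bc s G) H T r hr u (cj h (i ≫ u))
    ⟨(snd _ _ ≫ gK) * (fst _ _ ≫ i) * (snd _ _ ≫ gK)⁻¹, by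
      rw [comp_cj, MonObj.mul_comp, MonObj.mul_comp, GrpObj.inv_comp, Category.assoc, hgK, ← Category.assoc,
        comp_toUnit, Category.assoc]⟩
  -- the decomposition of `gK`
  obtain ⟨n₀, t, hn⟩ := hdec gK j (fun X x t => by
    rw [← cancel_mono u, MonObj.mul_comp, MonObj.mul_comp, GrpObj.inv_comp, Category.assoc, Category.assoc,
      Category.assoc, hj, comp_cj, hgK, ← Category.assoc x, comp_toUnit])
  -- the torus part
  have ht : t ≫ (i ≫ u) = toUnit _ ≫ ((n₀ ≫ u)⁻¹ * h) := by
    rw [MonObj.comp_mul, GrpObj.comp_inv, ← hgK, ← Category.assoc, ← Category.assoc (toUnit _),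
      eq_inv_mul_iff_mul_eq, ← MonObj.mul_comp, ← hn]
  obtain ⟨t', ht'⟩ := torus_mem (i ≫ u) hM (ClosedLift.dense_gen T)
    (TorImm.isImmersion_of_split hM (i ≫ u))
    (fun t h ht hc => TorImm.torus_lift hM (i ≫ u) t h ht hc) t _ ht
  refine ⟨n₀ * (t' ≫ i), ?_⟩
  rw [MonObj.mul_comp, Category.assoc, ht', mul_inv_cancel_left]

end Groth.Agent.Sga3.H807.ValCore
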